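import Cfsg.Agent.LThreeCo1.Ev

/-!
# Explicit elements of `Co0` for S5210, `q = 3` (helper264; generated)
-/

set_option autoImplicit false
set_option maxRecDepth 20000

namespace Cfsg.Agent.H264.U4

open Cfsg.Agent.LThreeCo1.Ev Cfsg.Agent.SporadicStructure.Co0Matrix Cfsg.Agent.CoOneType.CoEval

/-- matrix (times 8) -/
def A1 : List (List ℤ) := [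
  [1, 1, -1, -3, 1, -1, 1, 3, -3, 1, 1, 1, 1, -3, 1, 1, 1, 1, -1, -1, -1, -1, 3, 1],
  [-1, -1, 1, -1, -1, 1, -1, 1, -1, -1, -1, -1, -1, 3, 3, -1, 3, -1, -3, -3, 1, 1, 1, -1],
  [3, -1, 1, 3, -1, 1, -1, 1, -1, -1, -1, -1, -1, -1, -1, -1, -1, -1, -3, 1, 1, -3, 1, 3],
  [3, -1, -3, -1, -1, 1, -1, -3, -1, -1, -1, -1, 3, -1, 3, -1, -1, -1, 1, 1, 1, 1, 1, -1],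
  [-1, -1, 1, -1, -1, 1, -1, 1, 3, -1, -1, -1, -1, -1, 3, 3, -1, -1, 1, 1, -3, -3, 1, -1],
  [3, -1, 1, -1, -1, 1, -1, 1, -1, 3, 3, -1, -1, 3, -1, 3, -1, -1, 1, 1, 1, 1, 1, -1],
  [-1, -1, 1, -1, -1, 1, -5, 1, -1, -1, -1, 3, -1, -1, -1, -1, -1, 3, 1, 1, 1, 1, 1, -1],
  [-1, -1, 1, 3, -1, 1, -1, 1, -1, 3, -1, -1, 3, -1, -1, -1, -1, -1, 1, -3, -3, 1, 1, -1],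
  [-1, -1, 1, -1, 3, -3, -1, 1, -1, -1, -1, -1, 3, 3, -1, -1, -1, -1, 1, 1, 1, -3, 1, -1],
  [1, 1, 3, 1, 1, -1, 1, -1, 1, 1, -3, 1, 1, 1, 1, 1, 1, 1, -1, 3, -1, 3, 3, 1],
  [-1, -1, 1, -1, -1, -3, -1, 1, -1, 3, -1, -1, -1, -1, 3, -1, -1, -1, 1, 1, 1, 1, -3, 3],
  [-1, -1, 1, -1, -1, 1, 3, 1, -1, -1, -1, -5, -1, -1, -1, -1, -1, 3, 1, 1, 1, 1, 1, -1],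
  [1, 1, 3, -3, 1, 3, 1, -1, 1, 1, 1, 1, 1, 1, 1, -3, -3, 1, -1, -1, -1, -1, -1, 1],
  [-1, 3, 1, -1, -1, 1, -1, 1, -1, -1, -1, -1, 3, -1, -1, 3, -1, -1, -3, 1, 1, 1, -3, -1],
  [-1, 3, 1, 3, 3, 1, -1, 1, -1, -1, 3, -1, -1, -1, 3, -1, -1, -1, 1, 1, 1, 1, 1, -1],
  [3, -1, 1, -1, 3, 1, -1, 1, -1, -1, -1, -1, -1, -1, -1, -1, 3, -1, 1, 1, -3, 1, -3, -1],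
  [3, 3, 1, -1, -1, -3, -1, 1, 3, -1, -1, -1, -1, -1, -1, -1, -1, -1, 1, -3, 1, 1, 1, -1],
  [-1, -1, 1, -1, -1, 1, 3, 1, -1, -1, -1, 3, -1, -1, -1, -1, -1, -5, 1, 1, 1, 1, 1, -1],
  [1, -3, -1, 1, 1, -1, 1, 3, 1, -3, 1, 1, 1, 1, 1, 1, -3, 1, -1, -1, -1, 3, -1, 1],
  [1, -3, 3, 1, 1, -1, 1, -1, 1, 1, 1, 1, 1, -3, 1, 1, 1, 1, -1, -1, 3, -1, -1, -3],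
  [1, 1, 3, 1, -3, -1, 1, -1, -3, -3, 1, 1, 1, 1, 1, 1, 1, 1, 3, -1, -1, -1, -1, 1],
  [1, 1, -1, 1, -3, -1, 1, 3, 1, 1, 1, 1, 1, 1, 1, -3, 1, 1, -1, 3, -1, -1, -1, -3],
  [-1, -1, 1, -1, -1, 1, -1, 1, 3, -1, 3, -1, 3, -1, -1, -1, 3, -1, 1, 1, 1, 1, 1, 3],
  [1, 1, -1, 1, 1, 3, 1, 3, 1, 1, -3, 1, 1, 1, 1, 1, 1, 1, 3, -1, 3, -1, -1, 1]]

theorem okA1 : Ok A1 (tr A1) := Cfsg.Agent.CoOneType.CoFast.ok_of_okZ (by decide +kernel)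

/-- matrix (times 8) -/
def A2 : List (List ℤ) := [
  [2, 0, -2, 0, 0, 2, 0, 2, 0, -2, 0, 0, 6, 0, 0, 0, 0, 0, 0, 0, 0, 0, -2, 2],
  [0, -2, 0, -2, -2, 0, -2, 0, 2, 0, -2, 2, 0, 2, 2, 2, 2, -2, -2, -2, 2, 2, 0, 0],
  [2, 0, -2, 0, 0, 2, 0, 2, 0, 6, 0, 0, -2, 0, 0, 0, 0, 0, 0, 0, 0, 0, -2, 2],
  [0, 2, 0, -2, 2, 0, 2, 0, -2, 0, -2, 2, 0, -2, 2, -2, -2, 2, -2, -2, 2, 2, 0, 0],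
  [0, 2, 0, 2, 2, 0, 2, 0, 2, 0, 2, -2, 0, 2, -2, 2, 2, 2, -2, -2, 2, 2, 0, 0],
  [-2, 0, 2, 0, 0, -2, 0, 6, 0, 2, 0, 0, 2, 0, 0, 0, 0, 0, 0, 0, 0, 0, 2, -2],
  [0, 2, 0, -2, 2, 0, -2, 0, -2, 0, -2, -2, 0, 2, -2, -2, 2, -2, 2, 2, 2, 2, 0, 0],
  [-2, 0, 2, 0, 0, -2, 0, -2, 0, 2, 0, 0, 2, 0, 0, 0, 0, 0, 0, 0, 0, 0, 2, 6],
  [0, -2, 0, -2, 2, 0, -2, 0, 2, 0, 2, 2, 0, -2, -2, -2, 2, 2, -2, 2, 2, -2, 0, 0],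
  [2, 0, -2, 0, 0, 2, 0, 2, 0, -2, 0, 0, -2, 0, 0, 0, 0, 0, 0, 0, 0, 0, 6, 2],
  [0, -2, 0, 2, -2, 0, -2, 0, -2, 0, 2, -2, 0, -2, -2, -2, -2, -2, -2, -2, 2, 2, 0, 0],
  [0, -2, 0, -2, -2, 0, 2, 0, 2, 0, -2, -2, 0, -2, -2, 2, -2, 2, 2, 2, 2, 2, 0, 0],
  [6, 0, 2, 0, 0, -2, 0, -2, 0, 2, 0, 0, 2, 0, 0, 0, 0, 0, 0, 0, 0, 0, 2, -2],
  [0, 2, 0, -2, -2, 0, -2, 0, 2, 0, 2, -2, 0, 2, 2, -2, -2, 2, -2, 2, -2, 2, 0, 0],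
  [0, 2, 0, 2, 2, 0, -2, 0, 2, 0, 2, 2, 0, -2, 2, 2, -2, -2, 2, 2, 2, 2, 0, 0],
  [0, -2, 0, -2, 2, 0, -2, 0, -2, 0, 2, 2, 0, 2, -2, 2, -2, 2, 2, -2, -2, 2, 0, 0],
  [0, 2, 0, -2, -2, 0, -2, 0, -2, 0, 2, -2, 0, -2, 2, 2, 2, 2, 2, -2, 2, -2, 0, 0],
  [0, -2, 0, 2, -2, 0, 2, 0, -2, 0, 2, 2, 0, 2, 2, -2, 2, 2, 2, 2, 2, 2, 0, 0],
  [0, -2, 0, -2, 2, 0, 2, 0, 2, 0, 2, -2, 0, 2, 2, -2, -2, -2, 2, -2, 2, -2, 0, 0],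
  [0, -2, 0, -2, 2, 0, 2, 0, -2, 0, 2, -2, 0, -2, 2, 2, 2, -2, -2, 2, -2, 2, 0, 0],
  [0, 2, 0, -2, -2, 0, 2, 0, -2, 0, 2, 2, 0, 2, -2, 2, -2, -2, -2, 2, 2, -2, 0, 0],
  [0, 2, 0, -2, -2, 0, 2, 0, 2, 0, 2, 2, 0, -2, -2, -2, 2, -2, 2, -2, -2, 2, 0, 0],
  [2, 0, 6, 0, 0, 2, 0, 2, 0, -2, 0, 0, -2, 0, 0, 0, 0, 0, 0, 0, 0, 0, -2, 2],
  [-2, 0, 2, 0, 0, 6, 0, -2, 0, 2, 0, 0, 2, 0, 0, 0, 0, 0, 0, 0, 0, 0, 2, -2]]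

theorem okA2 : Ok A2 (tr A2) := Cfsg.Agent.CoOneType.CoFast.ok_of_okZ (by decide +kernel)

/-- matrix (times 8) -/
def A3 : List (List ℤ) := [
  [4, 0, 0, 0, 0, 0, 0, 0, 2, 0, 0, 0, 4, -2, 0, -2, 2, 0, 2, -2, 2, -2, 0, 0],
  [0, 4, 0, 0, -4, 0, 0, 0, 2, 0, 0, 0, 0, -2, 0, 2, -2, 0, -2, -2, -2, -2, 0, 0],
  [0, 0, 4, 0, 0, 0, 0, 4, -2, 0, 0, 0, 0, -2, 0, 2, 2, 0, 2, -2, -2, 2, 0, 0],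
  [0, 0, 0, 4, 0, 0, 0, 0, 2, 0, -4, 0, 0, 2, 0, 2, 2, 0, 2, 2, -2, -2, 0, 0],
  [0, -4, 0, 0, 4, 0, 0, 0, 2, 0, 0, 0, 0, -2, 0, 2, -2, 0, -2, -2, -2, -2, 0, 0],
  [0, 0, 0, 0, 0, 0, 0, 0, -2, 4, 0, 0, 0, 2, 0, 2, -2, 0, 2, -2, 2, -2, 0, 4],
  [0, 0, 0, 0, 0, 0, 0, 0, -2, 0, 0, 4, 0, -2, -4, -2, -2, 0, 2, 2, -2, -2, 0, 0],
  [0, 0, 4, 0, 0, 0, 0, 4, 2, 0, 0, 0, 0, 2, 0, -2, -2, 0, -2, 2, 2, -2, 0, 0],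
  [-2, 2, 2, 2, 2, 2, -2, -2, 0, -2, 2, -2, 2, 0, -2, 0, 0, -2, 0, 0, 0, 0, -2, 2],
  [0, 0, 0, 0, 0, 4, 0, 0, 2, 0, 0, 0, 0, 2, 0, -2, -2, 0, 2, -2, -2, 2, 4, 0],
  [0, 0, 0, -4, 0, 0, 0, 0, 2, 0, 4, 0, 0, 2, 0, 2, 2, 0, 2, 2, -2, -2, 0, 0],
  [0, 0, 0, 0, 0, 0, 4, 0, -2, 0, 0, 0, 0, 2, 0, -2, 2, -4, -2, -2, -2, -2, 0, 0],
  [4, 0, 0, 0, 0, 0, 0, 0, -2, 0, 0, 0, 4, 2, 0, 2, -2, 0, -2, 2, -2, 2, 0, 0],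
  [2, -2, 2, 2, -2, -2, -2, -2, 0, -2, 2, 2, -2, 0, 2, 0, 0, -2, 0, 0, 0, 0, 2, 2],
  [0, 0, 0, 0, 0, 0, -4, 0, -2, 0, 0, 0, 0, 2, 0, -2, 2, 4, -2, -2, -2, -2, 0, 0],
  [2, 2, -2, 2, 2, -2, -2, 2, 0, 2, 2, -2, -2, 0, -2, 0, 0, -2, 0, 0, 0, 0, 2, -2],
  [-2, -2, -2, 2, -2, 2, -2, 2, 0, 2, 2, 2, 2, 0, 2, 0, 0, -2, 0, 0, 0, 0, -2, -2],
  [0, 0, 0, 0, 0, 0, 0, 0, -2, 0, 0, -4, 0, -2, 4, -2, -2, 0, 2, 2, -2, -2, 0, 0],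
  [-2, -2, -2, 2, -2, -2, 2, 2, 0, -2, 2, -2, 2, 0, -2, 0, 0, 2, 0, 0, 0, 0, 2, 2],
  [2, -2, 2, 2, -2, 2, 2, -2, 0, 2, 2, -2, -2, 0, -2, 0, 0, 2, 0, 0, 0, 0, -2, -2],
  [-2, -2, 2, -2, -2, -2, -2, -2, 0, 2, -2, -2, 2, 0, -2, 0, 0, -2, 0, 0, 0, 0, 2, -2],
  [2, -2, -2, -2, -2, 2, -2, 2, 0, -2, -2, -2, -2, 0, -2, 0, 0, -2, 0, 0, 0, 0, -2, 2],
  [0, 0, 0, 0, 0, 0, 0, 0, 2, 4, 0, 0, 0, -2, 0, -2, 2, 0, -2, 2, -2, 2, 0, 4],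
  [0, 0, 0, 0, 0, 4, 0, 0, -2, 0, 0, 0, 0, -2, 0, 2, 2, 0, -2, 2, 2, -2, 4, 0]]

theorem okA3 : Ok A3 (tr A3) := Cfsg.Agent.CoOneType.CoFast.ok_of_okZ (by decide +kernel)

/-- matrix (times 8) -/
def A4 : List (List ℤ) := [
  [-4, 0, 0, 0, 0, 4, 0, 4, 0, 0, 0, 0, 0, 0, 0, 0, 0, 0, 0, 0, 0, 0, 0, 4],
  [0, 4, 0, 0, -4, 0, 0, 0, 4, 0, 0, 0, 0, 0, 0, 4, 0, 0, 0, 0, 0, 0, 0, 0],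
  [0, 0, -4, 0, 0, 0, 0, 0, 0, 4, 0, 0, 4, 0, 0, 0, 0, 0, 0, 0, 0, 0, 4, 0],
  [0, 0, 0, -4, 0, 0, 0, 0, 0, 0, 4, 0, 0, 0, 0, 0, 0, 0, 0, 0, -4, -4, 0, 0],
  [0, -4, 0, 0, 4, 0, 0, 0, 4, 0, 0, 0, 0, 0, 0, 4, 0, 0, 0, 0, 0, 0, 0, 0],
  [4, 0, 0, 0, 0, 4, 0, 4, 0, 0, 0, 0, 0, 0, 0, 0, 0, 0, 0, 0, 0, 0, 0, -4],
  [0, 0, 0, 0, 0, 0, 0, 0, 0, 0, 0, 4, 0, 0, -4, 0, 0, 0, 4, 4, 0, 0, 0, 0],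
  [4, 0, 0, 0, 0, 4, 0, -4, 0, 0, 0, 0, 0, 0, 0, 0, 0, 0, 0, 0, 0, 0, 0, 4],
  [0, 4, 0, 0, 4, 0, 0, 0, -4, 0, 0, 0, 0, 0, 0, 4, 0, 0, 0, 0, 0, 0, 0, 0],
  [0, 0, 4, 0, 0, 0, 0, 0, 0, 4, 0, 0, 4, 0, 0, 0, 0, 0, 0, 0, 0, 0, -4, 0],
  [0, 0, 0, 4, 0, 0, 0, 0, 0, 0, -4, 0, 0, 0, 0, 0, 0, 0, 0, 0, -4, -4, 0, 0],
  [0, 0, 0, 0, 0, 0, 4, 0, 0, 0, 0, 0, 0, 4, 0, 0, 4, -4, 0, 0, 0, 0, 0, 0],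
  [0, 0, 4, 0, 0, 0, 0, 0, 0, 4, 0, 0, -4, 0, 0, 0, 0, 0, 0, 0, 0, 0, 4, 0],
  [0, 0, 0, 0, 0, 0, 0, 0, 0, 0, 0, 4, 0, 0, 4, 0, 0, 0, 4, -4, 0, 0, 0, 0],
  [0, 0, 0, 0, 0, 0, -4, 0, 0, 0, 0, 0, 0, 4, 0, 0, 4, 4, 0, 0, 0, 0, 0, 0],
  [0, 4, 0, 0, 4, 0, 0, 0, 4, 0, 0, 0, 0, 0, 0, -4, 0, 0, 0, 0, 0, 0, 0, 0],
  [0, 0, 0, 0, 0, 0, 0, 0, 0, 0, 0, 4, 0, 0, 4, 0, 0, 0, -4, 4, 0, 0, 0, 0],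
  [0, 0, 0, 0, 0, 0, 0, 0, 0, 0, 0, -4, 0, 0, 4, 0, 0, 0, 4, 4, 0, 0, 0, 0],
  [0, 0, 0, 0, 0, 0, 4, 0, 0, 0, 0, 0, 0, 4, 0, 0, -4, 4, 0, 0, 0, 0, 0, 0],
  [0, 0, 0, 0, 0, 0, 4, 0, 0, 0, 0, 0, 0, -4, 0, 0, 4, 4, 0, 0, 0, 0, 0, 0],
  [0, 0, 0, -4, 0, 0, 0, 0, 0, 0, -4, 0, 0, 0, 0, 0, 0, 0, 0, 0, 4, -4, 0, 0],
  [0, 0, 0, -4, 0, 0, 0, 0, 0, 0, -4, 0, 0, 0, 0, 0, 0, 0, 0, 0, -4, 4, 0, 0],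
  [0, 0, 4, 0, 0, 0, 0, 0, 0, -4, 0, 0, 4, 0, 0, 0, 0, 0, 0, 0, 0, 0, 4, 0],
  [4, 0, 0, 0, 0, -4, 0, 4, 0, 0, 0, 0, 0, 0, 0, 0, 0, 0, 0, 0, 0, 0, 0, 4]]

theorem okA4 : Ok A4 (tr A4) := Cfsg.Agent.CoOneType.CoFast.ok_of_okZ (by decide +kernel)

/-- matrix (times 8) -/
def A5 : List (List ℤ) := [
  [5, 1, 1, -3, -1, -1, 1, -1, 1, 1, -1, 1, 3, 1, -1, 1, 1, -1, 1, 1, 1, 1, 1, -1],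
  [-1, 3, -1, -1, 1, 1, -1, 1, -1, -1, 1, 3, 1, 3, 1, -1, 3, -3, -1, -1, -1, -1, -1, 1],
  [-1, -1, -1, -1, -3, 1, -1, 1, -1, 3, 1, -1, 1, -1, 1, -1, 3, 1, -1, 3, -1, -1, 3, 1],
  [-3, 1, 1, 5, -1, -1, 1, -1, 1, 1, -1, 1, 3, 1, -1, 1, 1, -1, 1, 1, 1, 1, 1, -1],
  [-1, -1, 3, -1, 1, 1, 3, 1, -1, -1, 1, -1, 1, -1, 1, -1, 3, 1, -1, -1, 3, -1, -1, -3],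
  [1, 1, 1, 1, -1, -1, 1, 3, -3, 1, -1, 1, -1, 1, -1, 1, 1, 3, 1, -3, 1, 1, 1, 3],
  [-1, -1, -1, -1, -3, 1, 3, 1, 3, -1, 1, 3, 1, -1, 1, 3, -1, 1, -1, -1, -1, -1, -1, 1],
  [1, 1, 1, 1, -1, 3, 1, 3, 1, 1, -1, 1, -1, 1, 3, -3, -3, -1, 1, 1, 1, 1, 1, -1],
  [1, 1, 1, 1, -1, 3, -3, -1, 1, 1, 3, 1, -1, 1, -1, 1, 1, 3, 1, 1, 1, 1, -3, -1],
  [-1, -1, 3, -1, 1, 1, -1, 1, -1, 3, 1, -1, 1, -1, 1, 3, -1, -3, 3, -1, -1, -1, -1, 1],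
  [1, 1, 1, 1, -1, -1, 1, -1, -3, 1, 3, 1, -1, 1, -1, 1, -3, -1, -3, 1, 1, -3, 1, -1],
  [-1, 3, -1, -1, 1, 1, 3, 1, -1, -1, 1, -1, 1, -1, -3, -1, -1, 1, 3, 3, -1, -1, -1, 1],
  [3, -1, -1, 3, 1, 1, -1, 1, -1, -1, 1, -1, 5, -1, 1, -1, -1, 1, -1, -1, -1, -1, -1, 1],
  [1, -3, 1, 1, -1, -1, 1, -1, 1, 1, -1, 1, -1, 1, -1, -3, 1, -1, 1, 1, 1, -3, -3, 3],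
  [-1, -1, -1, -1, 1, 1, -1, -3, -1, -1, 1, 3, 1, -1, 1, -1, -1, 1, 3, -1, 3, -1, 3, 1],
  [1, 1, 1, 1, -1, -1, -3, 3, 1, -3, -1, 1, -1, -3, -1, 1, 1, -1, 1, 1, 1, -3, 1, -1],
  [1, -3, -3, 1, 3, -1, 1, 3, 1, 1, 3, 1, -1, 1, -1, 1, 1, -1, 1, 1, 1, 1, 1, -1],
  [-1, 3, -1, -1, 1, -3, -1, 1, 3, 3, 1, -1, 1, -1, 1, -1, -1, 1, -1, -1, 3, -1, -1, 1],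
  [1, 1, 1, 1, -1, -1, 1, -1, 1, -3, 3, -3, -1, 1, 3, 1, 1, -1, 1, 1, 1, 1, 1, 3],
  [1, 1, -3, 1, -1, 3, 1, -1, 1, 1, -1, -3, -1, 1, -1, 1, 1, -1, 1, -3, 1, -3, 1, -1],
  [-1, -1, -1, -1, -3, 1, -1, 1, -1, -1, 1, -1, 1, -1, -3, -1, -1, -3, -1, -1, 3, 3, -1, 1],
  [-1, -1, -1, -1, 1, 1, -1, 1, -1, -1, -3, -1, 1, 3, 1, 3, -1, 1, -1, 3, 3, -1, -1, 1],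
  [-1, -1, 3, -1, 1, 1, -1, 1, 3, -1, 1, -1, 1, 3, -3, -1, -1, 1, -1, -1, -1, -1, 3, 1],
  [1, 1, 1, 1, 3, 3, 1, -1, 1, 1, -1, 1, -1, -3, -1, 1, 1, -1, -3, 1, 1, 1, 1, 3]]

theorem okA5 : Ok A5 (tr A5) := Cfsg.Agent.CoOneType.CoFast.ok_of_okZ (by decide +kernel)

end Cfsg.Agent.H264.U4
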