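import Cfsg.Agent.H264.U4.Mod
import Cfsg.Agent.H264.U4.MatA
import Cfsg.Agent.H264.U4.MatB
import Cfsg.Agent.H264.U4.MatC
import Cfsg.Agent.SporadicStructure.Co2RankThree

/-!
# S5210, `q = 3`: the realised automorphisms in `Co0` and the fixed vectors (helper264)

`ph1` side: `Co₂ = Stab f0`, `U₆(2) = Stab (f0, f1)`, `U₆(2):2 = Stab (f0, {f1, f7})`, `f7 = f0 - f1`.
`ph2` side: `McL = Stab (f0, f10)`, `McL:2 = Stab {f0, f10}`.
-/

set_option autoImplicit false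
set_option maxRecDepth 20000
set_option linter.style.longLine false

namespace Cfsg.Agent.H264.U4

open Cfsg Cfsg.Agent.LThreeCo1.Ev Cfsg.Agent.SporadicStructure.Co0Matrix Cfsg.Agent.CoOneType.CoEval
open Cfsg.Agent.H776.Co Cfsg.Agent.H956.Co1P Cfsg.Agent.SporadicA
open Cfsg.Agent.SporadicStructure.Co2RankThree (dt card_stab_min)
open M6

/-! ### The elements -/

/-- `tor(1 + i, 1, 1)` for `ph1` -/
noncomputable def g1 : Co0 := mk okA1
/-- `tor(1, 1, star)` for `ph1` -/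
noncomputable def g2 : Co0 := mk okA2
/-- `tor(i, -1, 1)` for `ph1` -/
noncomputable def g3 : Co0 := mk okA3
/-- `tor(1, -1, 1)` for `ph1` -/
noncomputable def g4 : Co0 := mk okA4
/-- the Weyl element on `V` for `ph1` -/
noncomputable def g5 : Co0 := mk okA5
/-- `W_0` for `ph1` -/
noncomputable def g6 : Co0 := mk okA6
/-- `W_1` for `ph1` -/
noncomputable def g7 : Co0 := mk okA7
/-- `tor(1 + i, -1, star)` for `ph2` -/
noncomputable def k1 : Co0 := mk okB1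
/-- `tor(i, -1, 1)` for `ph2` -/
noncomputable def k2 : Co0 := mk okB2
/-- `tor(1, -1, 1)` for `ph2` -/
noncomputable def k3 : Co0 := mk okB3
/-- the Weyl element on `V` for `ph2` -/
noncomputable def k4 : Co0 := mk okB4
/-- `W_{1+i}` for `ph2` -/
noncomputable def k5 : Co0 := mk okB5
/-- `W_{-(1+i)}` for `ph2` -/
noncomputable def k6 : Co0 := mk okB6

theorem cA1 : ∀ i : Fin 6, chk A1 2 2 0 (tor 1 1 1 1) i = true := by decide +kernel
theorem cA2 : ∀ i : Fin 6, chk A2 2 2 0 (tor 1 0 1 (-1)) i = true := by decide +kernel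
theorem cA3 : ∀ i : Fin 6, chk A3 2 2 0 (tor 0 1 (-1) 1) i = true := by decide +kernel
theorem cA4 : ∀ i : Fin 6, chk A4 2 2 0 (tor 1 0 (-1) 1) i = true := by decide +kernel
theorem cA5 : ∀ i : Fin 6, i ≠ 0 → i ≠ 1 → chk A5 2 2 0 wv i = true := by decide +kernel
theorem cA6 : ∀ i : Fin 6, i ≠ 5 → chk A6 2 2 0 (wk 0 0) i = true := by decide +kernel
theorem cA7 : ∀ i : Fin 6, i ≠ 5 → chk A7 2 2 0 (wk 1 0) i = true := by decide +kernel
theorem cB1 : ∀ i : Fin 6, chk B1 2 1 1 (tor 1 1 (-1) (-1)) i = true := by decide +kernel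
theorem cB2 : ∀ i : Fin 6, chk B2 2 1 1 (tor 0 1 (-1) 1) i = true := by decide +kernel
theorem cB3 : ∀ i : Fin 6, chk B3 2 1 1 (tor 1 0 (-1) 1) i = true := by decide +kernel
theorem cB4 : ∀ i : Fin 6, i ≠ 0 → i ≠ 1 → chk B4 2 1 1 wv i = true := by decide +kernel
theorem cB5 : ∀ i : Fin 6, i ≠ 5 → chk B5 2 1 1 (wk 1 1) i = true := by decide +kernel
theorem cB6 : ∀ i : Fin 6, i ≠ 5 → chk B6 2 1 1 (wk (-1) (-1)) i = true := by decide +kernel

theorem tor_spec {A : List (List ℤ)} (h : Ok A (tr A)) {s k0 k1 s0 s1 l g : ZMod 3} (hg : g ^ 2 = 1)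
    (hc : ∀ i : Fin 6, chk A s k0 k1 (tor s0 s1 l g) i = true) (x : M6) :
    ph s k0 k1 (tor s0 s1 l g x) = mk h * ph s k0 k1 x * (mk h)⁻¹ :=
  agree (R := ⊤) (fun x _ y _ => tor_mul hg x y) _ (fun i _ => chk_spec h (hc i)) fun _ => Or.inr trivial

theorem wv_spec {A : List (List ℤ)} (h : Ok A (tr A)) {s k0 k1 : ZMod 3}
    (hc : ∀ i : Fin 6, i ≠ 0 → i ≠ 1 → chk A s k0 k1 wv i = true) {x : M6} (hx : x ∈ MV) :
    ph s k0 k1 (wv x) = mk h * ph s k0 k1 x * (mk h)⁻¹ := by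
  refine agree (R := MV) (fun x hx y hy => wv_mul hx hy) _ (fun i hi => chk_spec h (hc i ?_ ?_)) fun i => ?_
  · rintro rfl
    exact absurd hi.1 (by decide)
  · rintro rfl
    exact absurd hi.2 (by decide)
  · obtain ⟨h0, h1⟩ := hx
    fin_cases i
    · exact Or.inl h0
    · exact Or.inl h1
    · exact Or.inr ⟨rfl, rfl⟩
    · exact Or.inr ⟨rfl, rfl⟩
    · exact Or.inr ⟨rfl, rfl⟩
    · exact Or.inr ⟨rfl, rfl⟩

theorem wk_spec {A : List (List ℤ)} (h : Ok A (tr A)) {s k0 k1 a0 a1 : ZMod 3}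
    (hc : ∀ i : Fin 6, i ≠ 5 → chk A s k0 k1 (wk a0 a1) i = true) {x : M6} (hx : x ∈ MQ) :
    ph s k0 k1 (wk a0 a1 x) = mk h * ph s k0 k1 x * (mk h)⁻¹ := by
  refine agree (R := MQ) (fun x hx y hy => wk_mul a0 a1 hx hy) _ (fun i hi => chk_spec h (hc i ?_)) fun i => ?_
  · rintro rfl
    exact absurd (show (1 : ZMod 3) = 0 from hi) (by decide)
  · have h5 : x.c = 0 := hx
    fin_cases i
    · exact Or.inr rfl
    · exact Or.inr rfl
    · exact Or.inr rfl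
    · exact Or.inr rfl
    · exact Or.inr rfl
    · exact Or.inl h5

theorem r1 (x : M6) : ph1 (tor 1 1 1 1 x) = g1 * ph1 x * g1⁻¹ := tor_spec okA1 (by decide) cA1 x
theorem r2 (x : M6) : ph1 (tor 1 0 1 (-1) x) = g2 * ph1 x * g2⁻¹ := tor_spec okA2 (by decide) cA2 x
theorem r3 (x : M6) : ph1 (tor 0 1 (-1) 1 x) = g3 * ph1 x * g3⁻¹ := tor_spec okA3 (by decide) cA3 x
theorem r4 (x : M6) : ph1 (tor 1 0 (-1) 1 x) = g4 * ph1 x * g4⁻¹ := tor_spec okA4 (by decide) cA4 x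
theorem r5 {x : M6} (hx : x ∈ MV) : ph1 (wv x) = g5 * ph1 x * g5⁻¹ := wv_spec okA5 cA5 hx
theorem r6 {x : M6} (hx : x ∈ MQ) : ph1 (wk 0 0 x) = g6 * ph1 x * g6⁻¹ := wk_spec okA6 cA6 hx
theorem r7 {x : M6} (hx : x ∈ MQ) : ph1 (wk 1 0 x) = g7 * ph1 x * g7⁻¹ := wk_spec okA7 cA7 hx
theorem q1 (x : M6) : ph2 (tor 1 1 (-1) (-1) x) = k1 * ph2 x * k1⁻¹ := tor_spec okB1 (by decide) cB1 x
theorem q2 (x : M6) : ph2 (tor 0 1 (-1) 1 x) = k2 * ph2 x * k2⁻¹ := tor_spec okB2 (by decide) cB2 x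
theorem q3 (x : M6) : ph2 (tor 1 0 (-1) 1 x) = k3 * ph2 x * k3⁻¹ := tor_spec okB3 (by decide) cB3 x
theorem q4 {x : M6} (hx : x ∈ MV) : ph2 (wv x) = k4 * ph2 x * k4⁻¹ := wv_spec okB4 cB4 hx
theorem q5 {x : M6} (hx : x ∈ MQ) : ph2 (wk 1 1 x) = k5 * ph2 x * k5⁻¹ := wk_spec okB5 cB5 hx
theorem q6 {x : M6} (hx : x ∈ MQ) : ph2 (wk (-1) (-1) x) = k6 * ph2 x * k6⁻¹ := wk_spec okB6 cB6 hx

/-! ### The vectors -/

/-- the coordinates of `leechU` -/
def uL : List ℤ := [4, 0, 0, 0, 0, 0, 0, 0, 0, 0, 0, 0, 0, 0, 0, 0, 0, 0, 0, 0, 0, 0, 0, 4]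
/-- the coordinates of `f0` -/
def f0L : List ℤ := [2, 0, 2, 0, 0, 2, 0, 2, 0, 2, 0, 0, 2, 0, 0, 0, 0, 0, 0, 0, 0, 0, 2, 2]
/-- the coordinates of `f1` -/
def f1L : List ℤ := [-2, 0, 2, 0, 0, 2, 0, 2, 0, 2, 0, 0, -2, 0, 0, 0, 0, 0, 0, 0, 0, 0, 2, 2]
/-- the coordinates of `f7 = f0 - f1` -/
def f7L : List ℤ := [4, 0, 0, 0, 0, 0, 0, 0, 0, 0, 0, 0, 4, 0, 0, 0, 0, 0, 0, 0, 0, 0, 0, 0]
/-- the coordinates of `f10` -/
def f10L : List ℤ := [2, 2, 0, 0, 0, 0, 2, 0, 0, 0, 2, 2, 2, 0, 0, 0, 0, 0, 0, 0, -2, -2, 0, 0]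

theorem vecU_eq : ((Spor.leechU : leechLattice) : GolayPt → ℤ) = vec uL := by
  show Spor.vecU = vec uL
  funext p
  revert p
  decide +kernel

/-- the vector `f0` -/
noncomputable def f0 : leechLattice := (([13, 0, 13, 7, 0] : List ℕ).map (eX okA6)).prod.1 Spor.leechU
/-- the vector `f1` -/
noncomputable def f1 : leechLattice := (([13, 0, 13, 14, 7, 7] : List ℕ).map (eX okB5)).prod.1 Spor.leechU
/-- the vector `f7` -/
noncomputable def f7 : leechLattice := (([13, 0, 13, 2, 0, 10] : List ℕ).map (eX okA6)).prod.1 Spor.leechU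
/-- the vector `f10` -/
noncomputable def f10 : leechLattice := k3.1 f0

theorem w0 : foldZ (MX A6) [13, 0, 13, 7, 0] uL = f0L := by decide +kernel
theorem w1 : foldZ (MX B5) [13, 0, 13, 14, 7, 7] uL = f1L := by decide +kernel
theorem w7 : foldZ (MX A6) [13, 0, 13, 2, 0, 10] uL = f7L := by decide +kernel

theorem f0_eq : (f0 : GolayPt → ℤ) = vec f0L := by
  rw [f0, (fold_spec (repX okA6) [13, 0, 13, 7, 0] (l := uL) (by decide) vecU_eq).2, ← foldZ_eq, w0]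

theorem f1_eq : (f1 : GolayPt → ℤ) = vec f1L := by
  rw [f1, (fold_spec (repX okB5) [13, 0, 13, 14, 7, 7] (l := uL) (by decide) vecU_eq).2, ← foldZ_eq, w1]

theorem f7_eq : (f7 : GolayPt → ℤ) = vec f7L := by
  rw [f7, (fold_spec (repX okA6) [13, 0, 13, 2, 0, 10] (l := uL) (by decide) vecU_eq).2, ← foldZ_eq, w7]

theorem k_f10 : apZ B3 f0L = f10L := by decide +kernel

theorem f10_eq : (f10 : GolayPt → ℤ) = vec f10L := by
  rw [← k_f10, apZ_eq]
  exact (rep_mk okB3).apply (by decide) f0_eq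

/-! ### The fixed vectors of the elements -/

theorem g1_f0 : g1.1 f0 = f0 := act_eq okA1 (by decide) f0_eq f0_eq (by decide +kernel)
theorem g2_f0 : g2.1 f0 = f0 := act_eq okA2 (by decide) f0_eq f0_eq (by decide +kernel)
theorem g3_f0 : g3.1 f0 = f0 := act_eq okA3 (by decide) f0_eq f0_eq (by decide +kernel)
theorem g4_f0 : g4.1 f0 = f0 := act_eq okA4 (by decide) f0_eq f0_eq (by decide +kernel)
theorem g5_f0 : g5.1 f0 = f0 := act_eq okA5 (by decide) f0_eq f0_eq (by decide +kernel)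
theorem g6_f0 : g6.1 f0 = f0 := act_eq okA6 (by decide) f0_eq f0_eq (by decide +kernel)
theorem g7_f0 : g7.1 f0 = f0 := act_eq okA7 (by decide) f0_eq f0_eq (by decide +kernel)
theorem g2_f1 : g2.1 f1 = f1 := act_eq okA2 (by decide) f1_eq f1_eq (by decide +kernel)
theorem g3_f1 : g3.1 f1 = f1 := act_eq okA3 (by decide) f1_eq f1_eq (by decide +kernel)
theorem g4_f1 : g4.1 f1 = f7 := act_eq okA4 (by decide) f1_eq f7_eq (by decide +kernel)
theorem g5_f1 : g5.1 f1 = f1 := act_eq okA5 (by decide) f1_eq f1_eq (by decide +kernel)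
theorem g6_f1 : g6.1 f1 = f1 := act_eq okA6 (by decide) f1_eq f1_eq (by decide +kernel)
theorem g7_f1 : g7.1 f1 = f1 := act_eq okA7 (by decide) f1_eq f1_eq (by decide +kernel)
theorem g2_f7 : g2.1 f7 = f7 := act_eq okA2 (by decide) f7_eq f7_eq (by decide +kernel)
theorem g3_f7 : g3.1 f7 = f7 := act_eq okA3 (by decide) f7_eq f7_eq (by decide +kernel)
theorem g4_f7 : g4.1 f7 = f1 := act_eq okA4 (by decide) f7_eq f1_eq (by decide +kernel)
theorem g5_f7 : g5.1 f7 = f7 := act_eq okA5 (by decide) f7_eq f7_eq (by decide +kernel)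
theorem g6_f7 : g6.1 f7 = f7 := act_eq okA6 (by decide) f7_eq f7_eq (by decide +kernel)
theorem g7_f7 : g7.1 f7 = f7 := act_eq okA7 (by decide) f7_eq f7_eq (by decide +kernel)
theorem k1_f0 : k1.1 f0 = f0 := act_eq okB1 (by decide) f0_eq f0_eq (by decide +kernel)
theorem k2_f0 : k2.1 f0 = f0 := act_eq okB2 (by decide) f0_eq f0_eq (by decide +kernel)
theorem k3_f0 : k3.1 f0 = f10 := rfl
theorem k4_f0 : k4.1 f0 = f0 := act_eq okB4 (by decide) f0_eq f0_eq (by decide +kernel)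
theorem k5_f0 : k5.1 f0 = f0 := act_eq okB5 (by decide) f0_eq f0_eq (by decide +kernel)
theorem k6_f0 : k6.1 f0 = f0 := act_eq okB6 (by decide) f0_eq f0_eq (by decide +kernel)
theorem k1_f10 : k1.1 f10 = f10 := act_eq okB1 (by decide) f10_eq f10_eq (by decide +kernel)
theorem k2_f10 : k2.1 f10 = f10 := act_eq okB2 (by decide) f10_eq f10_eq (by decide +kernel)
theorem k3_f10 : k3.1 f10 = f0 := act_eq okB3 (by decide) f10_eq f0_eq (by decide +kernel)
theorem k4_f10 : k4.1 f10 = f10 := act_eq okB4 (by decide) f10_eq f10_eq (by decide +kernel)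
theorem k5_f10 : k5.1 f10 = f10 := act_eq okB5 (by decide) f10_eq f10_eq (by decide +kernel)
theorem k6_f10 : k6.1 f10 = f10 := act_eq okB6 (by decide) f10_eq f10_eq (by decide +kernel)

/-- the vectors fixed by the whole group `S` -/
theorem fix_of {f : leechLattice} {l : List ℤ} (hl : l.length ≤ 24) (hf : (f : GolayPt → ℤ) = vec l)
    (h : ∀ i : Fin 6, foldZ M (wd 0 0 0 (rt i 1)) l = l) (s k0 k1 : ZMod 3) (x : M6) : (ph s k0 k1 x).1 f = f := by
  have h0 : ∀ x : M6, (ph 0 0 0 x).1 f = f := by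
    intro x
    let R : Subgroup M6 := (MulAction.stabilizer Co0 f).comap (ph 0 0 0)
    have hR : ∀ i, rt i 1 ∈ R := by
      intro i
      show (ph 0 0 0 (rt i 1)).1 f = f
      rw [← wd_prod]
      apply Subtype.ext
      rw [(fold_spec rep (wd 0 0 0 (rt i 1)) hl hf).2, ← foldZ_eq, h i, hf]
    exact mem_of_rt (R := R) fun i => Or.inr (hR i)
  have h1 : ∀ y : M6, ph s k0 k1 y = ph 0 0 0 (be s k0 k1 y) := by
    intro y
    have h2 : be 0 0 0 (be s k0 k1 y) = be s k0 k1 y := by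
      ext <;> simp [be_apply]
    show dat.hom (io (be s k0 k1 y)) = dat.hom (io (be 0 0 0 (be s k0 k1 y)))
    rw [h2]
  rw [h1]
  exact h0 _

theorem ph_f0 (s k0 k1 : ZMod 3) (x : M6) : (ph s k0 k1 x).1 f0 = f0 :=
  fix_of (by decide) f0_eq (by decide +kernel) s k0 k1 x

theorem ph_f1 (s k0 k1 : ZMod 3) (x : M6) : (ph s k0 k1 x).1 f1 = f1 :=
  fix_of (by decide) f1_eq (by decide +kernel) s k0 k1 x

theorem ph_f7 (s k0 k1 : ZMod 3) (x : M6) : (ph s k0 k1 x).1 f7 = f7 :=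
  fix_of (by decide) f7_eq (by decide +kernel) s k0 k1 x

theorem ph_f10 (s k0 k1 : ZMod 3) (x : M6) : (ph s k0 k1 x).1 f10 = f10 :=
  fix_of (by decide) f10_eq (by decide +kernel) s k0 k1 x

end Cfsg.Agent.H264.U4
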